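import Cfsg.Agent.Lib.Comp.Fast

set_option maxRecDepth 100000
set_option Elab.async false

namespace Cfsg.Lib.Comp.JT3

universe u

def iv : ℕ → ℕ := (fun x => look (nat_lit 0xffef7cefae78df6d74cf2c70beeb6caeaa689e69648e28607de75c6da6585d65544d24503cd38b30a2472061440c2040) 6 x)

noncomputable def R : List (List ℕ × ℕ) := (apd [([1],1),
 ([2],1),
 ([3],1),
 ([4],1),
 ([5],1),
 ([6],1),
 ([9],1),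
 ([10],1),
 ([7],2),
 ([2,3,4,5,6],0),
 ([1,2],1),
 ([1,3],1),
 ([2,3,2,3,1],0),
 ([1,4],1),
 ([2,4,2,4,1],0),
 ([3,4,3,4,1],0),
 ([1,5],1),
 ([2,5,2,5,1],0),
 ([3,5,3,5,1],0),
 ([4,5,4,5,1],0),
 ([1,6],1),
 ([2,6,2,6,1],0),
 ([3,6,3,6,1],0),
 ([4,6,4,6,1],0),
 ([5,6,5,6,1],0),
 ([1,8,1,7],0),
 ([7,2,8,2],0),
 ([7,3,8,4],0),
 ([7,4,8,5],0),
 ([7,5,8,3],0),
 ([7,6,8,6],0),
 ([1,9],1),
 ([9,2],1),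
 ([9,3,9,6],0),
 ([9,4,9,5],0),
 ([9,5,9,4],0),
 ([9,6,9,3],0),
 ([1,10],1),
 ([10,2,10,6],0),
 ([10,3,10,4],0)]
 [([10,4,10,3],0),
 ([10,5],1),
 ([10,6,10,2],0),
 ([7,9],2),
 ([7,10],1),
 ([9,10],4),
 ([7,9,10],2),
 ([11],2),
 ([11,6],1),
 ([11,1,12,2,1],0),
 ([11,2,12,1],0),
 ([12,8,11,7],0),
 ([11,9,12,7,9,8],0),
 ([13,10,12,10],0),
 ([13],2),
 ([15],1),
 ([15,1,15,9],0),
 ([15,7,15,11,8],0),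
 ([15,6,9,6],2),
 ([15,6,15,6,15,13,12,14,1],0),
 ([7,8],0),
 ([11,12],0),
 ([13,14],0)])

def L : List ℕ := [1,2,3,4,5,6,7,8,9,10,11,12,13,14,15]

end Cfsg.Lib.Comp.JT3
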