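import Cfsg.Agent.Lib.Comp.JT3.T012

set_option maxRecDepth 100000
set_option Elab.async false

namespace Cfsg.Lib.Comp.JT3

universe u

theorem T0_fin : finB 28672 T0_n [1,2,3,4,5,6,7,8,9,10,11,12,13,14,15] 26163 (runH 28672 T0_n (tbk 15 4 prs15 T0_n 1024) iv T0_R [] ([1,2,3,4,5,6,7,8,9,10].map fun x => [x]) 0 []
  (apd [68,72,76,80,84,88,92,96,100,104,108,112,116,120,124,128,132,136,140,144,148,152,156,160,164,168,172,176,180,184,188,192,196,200,204,208,212,216,220,224,228,232,236,240,244,248,0,4,8,12,16,20,24,28,32,36,40,44,48,52]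
 (apd [56,60,64,68,72,76,80,84,88,92,96,100,104,108,112,116,120,124,128,132,136,140,144,148,152,156,160,164,168,172,176,180,184,188,192,196,200,204,208,212,216,220,224,228,232,236,240,244,248,4,12,16,20,28,32,36,40,44,48,52]
 (apd [56,60,64,68,72,76,80,84,88,92,96,100,104,108,112,116,120,124,128,132,136,140,144,148,152,156,160,164,168,172,176,180,184,188,192,196,200,204,208,212,216,220,224,228,232,236,240,244,248,4,20,28,32,36,44,48,52,56,60,64]
 [68,72,80,84,88,100,104,108,112,116,120,128,132,136,148,152,156,172,188,192,196,200,204,212,220,224,228,236])))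
  T0_K10) = true := by decide +kernel

theorem T0_idx : Idx.{u} iv (T0_R ++ []) ([1,2,3,4,5,6,7,8,9,10].map fun x => [x]) [1,2,3,4,5,6,7,8,9,10,11,12,13,14,15] 26163 :=
  Reach.idx T0_n_ok (reach_runH T0_n_ok (tbk_eq tr15 (by norm_num) (by norm_num) (by norm_num) T0_n_ok) T0_n_rel T0_K10_reach _ _) T0_fin (by norm_num)

end Cfsg.Lib.Comp.JT3
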